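import Groth.Prelude.Def_Curv2
import Groth.Agent.GeomRedPtLib.Basic
import Groth.Agent.RedSepLib.Basic
import Groth.Agent.DVRCrit.Local
import Groth.Agent.S1543
import Groth.Agent.S1629
import Groth.Agent.S1654

/-!
# Geometrically integral components after a finite extension of the base field
-/

set_option autoImplicit false
set_option backward.isDefEq.respectTransparency false
set_option linter.style.haveILetI false
set_option maxHeartbeats 1000000

universe u

open CategoryTheory CategoryTheory.Limits AlgebraicGeometry TopologicalSpace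

noncomputable section

namespace Groth.Agent.GeomIntCompLib

theorem isReduced_of_flat_preimmersion {V U : Scheme.{u}} (t : V ⟶ U) [IsPreimmersion t] [Flat t] [IsReduced U] :
    IsReduced V :=
  haveI : ∀ v, _root_.IsReduced (V.presheaf.stalk v) := fun v =>
    (GeomRedPtLib.isReduced_stalk_iff_of_preimmersion t v).2 inferInstance
  isReduced_of_isReduced_stalk _

theorem geometricallyReduced_of_isOpenImmersion_comp {U X Y : Scheme.{u}} (j : U ⟶ X) [IsOpenImmersion j]
    (g : X ⟶ Y) [GeometricallyReduced g] : GeometricallyReduced (j ≫ g) :=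
  ⟨fun K _ y Z fst snd h => by
    haveI : IsReduced (pullback g y) :=
      GeometricallyReduced.geometrically_isReduced _ _ _ (IsPullback.of_hasPullback g y)
    exact isReduced_of_isOpenImmersion
      (h.isoPullback.hom ≫ (pullbackRightPullbackFstIso g y j).inv ≫ pullback.snd _ _)⟩

theorem geometricallyIrreducible_closed_surjective {T U S : Scheme.{u}} (j : T ⟶ U) [IsClosedImmersion j]
    [Surjective j] (g : U ⟶ S) [GeometricallyIrreducible g] : GeometricallyIrreducible (j ≫ g) := by
  refine ⟨geometrically_iff_of_isClosedUnderIsomorphisms.mpr fun K _ x => ?_⟩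
  haveI : IrreducibleSpace ↥(pullback g x) :=
    GeometricallyIrreducible.geometrically_irreducibleSpace _ _ _ (IsPullback.of_hasPullback g x)
  let m := pullback.snd j (pullback.fst g x)
  haveI : IsClosedImmersion m := MorphismProperty.pullback_snd _ _ inferInstance
  haveI : Surjective m := MorphismProperty.pullback_snd _ _ inferInstance
  have hm : IsHomeomorph m :=
    isHomeomorph_iff_isEmbedding_surjective.2 ⟨m.isClosedEmbedding.isEmbedding, Scheme.Hom.surjective m⟩
  refine (pullbackRightPullbackFstIso g x j).hom.homeomorph.irreducibleSpace_iff.1 ?_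
  exact hm.homeomorph.irreducibleSpace_iff.2 inferInstance

theorem image_mem_components {α β : Type u} [TopologicalSpace α] [TopologicalSpace β] {b : α → β}
    (hb : IsHomeomorph b) {T : Set α} (hT : T ∈ irreducibleComponents α) : b '' T ∈ irreducibleComponents β := by
  refine ⟨hT.1.image b hb.continuous.continuousOn, fun s hs hle => ?_⟩
  let e := hb.homeomorph
  have he : ∀ a, e a = b a := fun a => rfl
  have h1 : IsIrreducible (e.symm '' s) := hs.image e.symm e.symm.continuous.continuousOn
  have h2 : T ≤ e.symm '' s := fun a ha => ⟨b a, hle ⟨a, ha, rfl⟩, by rw [← he, e.symm_apply_apply]⟩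
  intro y hy
  exact ⟨e.symm y, hT.2 h1 h2 ⟨y, hy, rfl⟩, by rw [← he, e.apply_symm_apply]⟩

/-- The components of a scheme are geometrically reduced if its reduction is. -/
theorem geometricallyReduced_component {k : Type u} [Field k] {W T : Scheme.{u}} (q : W ⟶ Spec (CommRingCat.of k))
    [LocallyOfFiniteType q] [CompactSpace W] [GeometricallyReduced (W.nilradical.subschemeι ≫ q)]
    (i : T ⟶ W) [IsClosedImmersion i] [IsReduced T] (hT : Set.range i ∈ irreducibleComponents W) :
    GeometricallyReduced (i ≫ q) := by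
  classical
  haveI : IsLocallyNoetherian W := LocallyOfFiniteType.isLocallyNoetherian q
  haveI : IsNoetherian W := {}
  have hfin : (irreducibleComponents (W : Type u)).Finite := NoetherianSpace.finite_irreducibleComponents
  obtain ⟨C, hC⟩ : ∃ C : Set W, C = ⋃₀ (irreducibleComponents (W : Type u) \ {Set.range i}) := ⟨_, rfl⟩
  have hCc : IsClosed C := by
    rw [hC, Set.sUnion_eq_biUnion]
    exact (hfin.sdiff (t := {Set.range i})).isClosed_biUnion fun Z hZ => isClosed_of_mem_irreducibleComponents Z hZ.1
  have hsub : Cᶜ ⊆ Set.range i := fun x hx => by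
    obtain ⟨Z, hZ, hxZ⟩ : ∃ Z ∈ irreducibleComponents (W : Type u), x ∈ Z :=
      ⟨_, irreducibleComponent_mem_irreducibleComponents x, mem_irreducibleComponent⟩
    by_contra h
    exact hx (hC ▸ ⟨Z, ⟨hZ, fun e => h (Set.mem_singleton_iff.1 e ▸ hxZ)⟩, hxZ⟩)
  have hirr : IsIrreducible (Set.range i) := hT.1
  have hgen : hirr.genericPoint ∉ C := fun h => by
    rw [hC] at h
    obtain ⟨Z, ⟨hZ, hne⟩, hxZ⟩ := h
    have hle : Set.range i ⊆ Z := fun y hy =>
      ((hirr.isGenericPoint_genericPoint i.isClosedEmbedding.isClosed_range).specializes hy).mem_closed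
        (isClosed_of_mem_irreducibleComponents Z hZ) hxZ
    exact hne (Set.mem_singleton_iff.2 ((hT.2 hZ.1 hle).antisymm hle))
  obtain ⟨Uo, hUo⟩ : ∃ Uo : T.Opens, (Uo : Set T) = i ⁻¹' Cᶜ :=
    ⟨⟨_, hCc.isOpen_compl.preimage i.continuous⟩, rfl⟩
  let ν := W.nilradical.subschemeι
  haveI : Surjective ν := ⟨fun x => by
    have : x ∈ Set.range ν := by
      rw [Scheme.IdealSheafData.range_subschemeι, Scheme.support_nilradical]
      trivial
    exact this⟩
  haveI : IsReduced W.nilradical.subscheme := by
    rw [← Scheme.IdealSheafData.vanishingIdeal_top]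
    exact DVRCrit.isReduced_vanishingIdeal ⊤
  obtain ⟨a, ha⟩ := DVRCrit.exists_factor_closed ν i (by rw [Set.range_eq_univ.2 (Scheme.Hom.surjective ν)]; exact Set.subset_univ _)
  haveI : IsImmersion (a ≫ ν) := by rw [ha]; infer_instance
  haveI : IsImmersion a := IsImmersion.of_comp a ν
  have hr : Set.range (Uo.ι ≫ a) = ν ⁻¹' Cᶜ := by
    ext z
    constructor
    · rintro ⟨t, rfl⟩
      have : (t.1 : T) ∈ (Uo : Set T) := t.2
      rw [hUo] at this
      show ν (a (Uo.ι t)) ∉ C
      rw [← Scheme.Hom.comp_apply a, ha]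
      exact this
    · intro hz
      obtain ⟨t, ht⟩ := hsub hz
      have htU : t ∈ (Uo : Set T) := by rw [hUo]; show i t ∉ C; rw [ht]; exact hz
      refine ⟨⟨t, htU⟩, ν.isEmbedding.injective ?_⟩
      rw [Scheme.Hom.comp_apply, ← Scheme.Hom.comp_apply a, ha]
      exact ht
  haveI : IsOpenImmersion (Uo.ι ≫ a) :=
    RedSepLib.isOpenImmersion_of_isOpen_range _ (hr ▸ hCc.isOpen_compl.preimage ν.continuous)
  haveI hUr : GeometricallyReduced (Uo.ι ≫ i ≫ q) := by
    rw [← ha, Category.assoc, ← Category.assoc Uo.ι]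
    exact geometricallyReduced_of_isOpenImmersion_comp _ _
  letI : T.Over (Spec (CommRingCat.of k)) := ⟨i ≫ q⟩
  refine S1543.result k T fun Z hZ η hη => ?_
  have hTirr : IrreducibleSpace T := by
    have : IsIrreducible (Set.range i) := hirr
    obtain ⟨x, hx⟩ := hirr.nonempty
    haveI : Nonempty T := ⟨hx.choose⟩
    haveI : PreirreducibleSpace T := ⟨by
      intro u v hu hv hu' hv'
      obtain ⟨u', hu'o, rfl⟩ := i.isEmbedding.isInducing.isOpen_iff.1 hu
      obtain ⟨v', hv'o, rfl⟩ := i.isEmbedding.isInducing.isOpen_iff.1 hv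
      obtain ⟨a, -, ha⟩ := hu'
      obtain ⟨b, -, hb⟩ := hv'
      obtain ⟨c, ⟨t, rfl⟩, hc⟩ := hirr.2 u' v' hu'o hv'o ⟨i a, ⟨a, rfl⟩, ha⟩ ⟨i b, ⟨b, rfl⟩, hb⟩
      exact ⟨t, trivial, hc⟩⟩
    exact ⟨inferInstance⟩
  have hηU : η ∈ (Uo : Set T) := by
    rw [irreducibleComponents_eq_singleton] at hZ
    obtain rfl := Set.mem_singleton_iff.1 hZ
    obtain ⟨t, ht⟩ := hirr.isGenericPoint_genericPoint i.isClosedEmbedding.isClosed_range |>.mem
    exact hη.mem_open_set_iff Uo.2 |>.2 ⟨t, trivial, (Set.ext_iff.1 hUo t).2 (show i t ∉ C by rw [ht]; exact hgen)⟩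
  intro K _ _ x' hx'
  let s := Spec.map (CommRingCat.ofHom (algebraMap k K))
  let fst : Curv2.bc k T K ⟶ T := Curv2.bcFst k T K
  have hsq : IsPullback (fst ∣_ Uo) ((fst ⁻¹ᵁ Uo).ι ≫ Curv2.bcSnd k T K) (Uo.ι ≫ i ≫ q) s :=
    (isPullback_morphismRestrict fst Uo).paste_vert (IsPullback.of_hasPullback (T ↘ Spec (CommRingCat.of k)) s)
  haveI : IsReduced (fst ⁻¹ᵁ Uo).toScheme := GeometricallyReduced.geometrically_isReduced _ _ _ hsq
  have hxU : x' ∈ fst ⁻¹ᵁ Uo := by
    show fst x' ∈ Uo
    rw [show fst x' = η from hx']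
    exact hηU
  haveI : _root_.IsReduced ((fst ⁻¹ᵁ Uo).toScheme.presheaf.stalk ⟨x', hxU⟩) := inferInstance
  exact isReduced_of_injective ((fst ⁻¹ᵁ Uo).stalkIso ⟨x', hxU⟩).inv.hom
    ((fst ⁻¹ᵁ Uo).stalkIso ⟨x', hxU⟩).symm.commRingCatIsoToRingEquiv.injective

theorem exists_finite_ext_pullback {k : Type u} [Field k] {X : Scheme.{u}} (p : X ⟶ Spec (CommRingCat.of k))
    [LocallyOfFiniteType p] [CompactSpace X] :
    ∃ (L : Type u) (_ : Field L) (_ : Algebra k L), Module.Finite k L ∧
      ∀ (T : Scheme.{u}) (i : T ⟶ pullback p (Spec.map (CommRingCat.ofHom (algebraMap k L)))) [IsClosedImmersion i]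
        [IsReduced T], Set.range i ∈ irreducibleComponents ↥(pullback p (Spec.map (CommRingCat.ofHom (algebraMap k L)))) →
          GeometricallyIntegral (i ≫ pullback.snd p (Spec.map (CommRingCat.ofHom (algebraMap k L)))) := by
  letI : X.Over (Spec (CommRingCat.of k)) := ⟨p⟩
  haveI : LocallyOfFiniteType (X ↘ Spec (CommRingCat.of k)) := ‹_›
  haveI : IsLocallyNoetherian X := LocallyOfFiniteType.isLocallyNoetherian p
  haveI : IsNoetherian X := {}
  obtain ⟨k', _, _, hfd, -, hirr⟩ := S1654.result k X NoetherianSpace.finite_irreducibleComponents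
  let Y := Curv2.bc k X k'
  let qY : Y ⟶ Spec (CommRingCat.of k') := Curv2.bcSnd k X k'
  letI : Y.Over (Spec (CommRingCat.of k')) := ⟨qY⟩
  haveI : LocallyOfFiniteType qY := MorphismProperty.pullback_snd p _ inferInstance
  haveI : LocallyOfFiniteType (Y ↘ Spec (CommRingCat.of k')) := ‹_›
  haveI : QuasiCompact p := (HasAffineProperty.iff_of_isAffine (P := @QuasiCompact)).2 inferInstance
  haveI : QuasiCompact qY := MorphismProperty.pullback_snd p _ inferInstance
  haveI : CompactSpace Y := QuasiCompact.compactSpace_of_compactSpace qY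
  haveI : IsLocallyNoetherian Y := LocallyOfFiniteType.isLocallyNoetherian qY
  haveI : IsNoetherian Y := {}
  obtain ⟨L, _, _, hfd', hpi, hred⟩ := S1629.result k' Y NoetherianSpace.finite_irreducibleComponents
  letI : Algebra k L := ((algebraMap k' L).comp (algebraMap k k')).toAlgebra
  haveI : IsScalarTower k k' L := IsScalarTower.of_algebraMap_eq fun _ => rfl
  refine ⟨L, inferInstance, inferInstance, Module.Finite.trans k' L, ?_⟩
  let g' := Spec.map (CommRingCat.ofHom (algebraMap k' L))
  let g := Spec.map (CommRingCat.ofHom (algebraMap k k'))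
  let W := Curv2.bc k' Y L
  let qW : W ⟶ Spec (CommRingCat.of L) := Curv2.bcSnd k' Y L
  let b : W ⟶ Y := Curv2.bcFst k' Y L
  have hW : IsPullback (b ≫ Curv2.bcFst k X k') qW p (Spec.map (CommRingCat.ofHom (algebraMap k L))) := by
    have e : Spec.map (CommRingCat.ofHom (algebraMap k L)) = g' ≫ g := by
      rw [← Spec.map_comp]
      rfl
    rw [e]
    exact (IsPullback.of_hasPullback qY g').paste_horiz (IsPullback.of_hasPullback p g)
  haveI : IsIntegralHom g' := IsIntegralHom.SpecMap_iff.2 (algebraMap_isIntegral_iff.2 inferInstance)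
  haveI : UniversallyInjective g' := GeomIrred.universallyInjective_specMap k' L
  haveI : Surjective g' := ⟨fun y => ⟨default, Subsingleton.elim _ _⟩⟩
  haveI : UniversallyInjective b := MorphismProperty.pullback_fst qY g' inferInstance
  haveI : IsIntegralHom b := MorphismProperty.pullback_fst qY g' inferInstance
  haveI : Surjective b := MorphismProperty.pullback_fst qY g' inferInstance
  have hb : IsHomeomorph b :=
    isHomeomorph_iff_continuous_isClosedMap_bijective.2 ⟨b.continuous, b.isClosedMap, b.injective, b.surjective⟩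
  haveI : LocallyOfFiniteType qW := MorphismProperty.pullback_snd qY _ inferInstance
  haveI : QuasiCompact qW := MorphismProperty.pullback_snd qY _ inferInstance
  haveI : CompactSpace W := QuasiCompact.compactSpace_of_compactSpace qW
  haveI : GeometricallyReduced (W.nilradical.subschemeι ≫ qW) := hred
  intro T i _ _ hT
  let e := hW.isoPullback
  have key : GeometricallyIntegral ((i ≫ e.inv) ≫ qW) := by
    have hTW : Set.range (i ≫ e.inv) ∈ irreducibleComponents W := by
      rw [Scheme.Hom.comp_base, TopCat.coe_comp, Set.range_comp]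
      exact image_mem_components e.inv.homeomorph.isHomeomorph hT
    haveI := geometricallyReduced_component qW (i ≫ e.inv) hTW
    have hTY : b '' Set.range (i ≫ e.inv) ∈ irreducibleComponents Y := image_mem_components hb hTW
    let I := Scheme.IdealSheafData.vanishingIdeal ⟨b '' Set.range (i ≫ e.inv), isClosed_of_mem_irreducibleComponents _ hTY⟩
    let ι := I.subschemeι
    haveI : GeometricallyIrreducible (ι ≫ qY) := hirr _ hTY
    have hι : Set.range ι = b '' Set.range (i ≫ e.inv) := by
      rw [Scheme.IdealSheafData.range_subschemeι, Scheme.IdealSheafData.coe_support_vanishingIdeal]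
      rfl
    let c := pullback.snd ι b
    haveI : IsClosedImmersion c := MorphismProperty.pullback_snd _ _ inferInstance
    have hc : Set.range c = Set.range (i ≫ e.inv) := by
      rw [Scheme.Pullback.range_snd, hι, Set.preimage_image_eq _ hb.injective]
    obtain ⟨a, ha⟩ := DVRCrit.exists_factor_closed c (i ≫ e.inv) hc.ge
    haveI : IsClosedImmersion (a ≫ c) := by rw [ha]; infer_instance
    haveI : IsClosedImmersion a := IsClosedImmersion.of_comp a c
    haveI : Surjective a := ⟨fun z => by
      obtain ⟨t, ht⟩ := hc.le ⟨z, rfl⟩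
      refine ⟨t, c.isEmbedding.injective ?_⟩
      rw [← Scheme.Hom.comp_apply, ha, ht]⟩
    have hsq : IsPullback (pullback.fst ι b) (c ≫ qW) (ι ≫ qY) g' :=
      (IsPullback.of_hasPullback ι b).paste_vert (IsPullback.of_hasPullback qY g')
    haveI : GeometricallyIrreducible (c ≫ qW) := MorphismProperty.of_isPullback hsq inferInstance
    haveI : GeometricallyIrreducible ((i ≫ e.inv) ≫ qW) := by
      rw [← ha, Category.assoc]
      exact geometricallyIrreducible_closed_surjective a (c ≫ qW)
    exact GeometricallyIntegral.of_geometricallyReduced_of_geometricallyIrreducible _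
  rwa [Category.assoc, hW.isoPullback_inv_snd] at key

end Groth.Agent.GeomIntCompLib
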