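import Groth.Agent.GeomIntCompLib.Field
import Groth.Agent.CommSpreadLib.Open
import Groth.Agent.GenIrredLib.GeomInt
import Groth.Agent.S0434
import Groth.Agent.S0419

/-!
# Spreading out geometrically integral components
-/

set_option autoImplicit false
set_option backward.isDefEq.respectTransparency false
set_option linter.style.haveILetI false
set_option maxHeartbeats 1000000

universe u

open CategoryTheory CategoryTheory.Limits AlgebraicGeometry TopologicalSpace

noncomputable section

namespace Groth.Agent.GeomIntCompLib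

/-- A property of the restriction to an open passes to base changes through that open. -/
theorem of_restrict (P : MorphismProperty Scheme.{u}) [P.IsStableUnderBaseChange] {X B T Q : Scheme.{u}} (g : X ⟶ B)
    (V : B.Opens) (h : P (g ∣_ V)) (a : T ⟶ V.toScheme) {p : Q ⟶ X} {q : Q ⟶ T} (sq : IsPullback p q g (a ≫ V.ι)) :
    P q := by
  have hV := (isPullback_morphismRestrict g V).flip
  let l := hV.lift p (q ≫ a) (by rw [Category.assoc]; exact sq.w)
  have sq' : IsPullback l q (g ∣_ V) a :=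
    IsPullback.of_right (h₁₂ := (g ⁻¹ᵁ V).ι) (by rw [hV.lift_fst]; exact sq) (hV.lift_snd _ _ _) hV
  exact MorphismProperty.of_isPullback sq' h

theorem restrict_mono (P : MorphismProperty Scheme.{u}) [P.IsStableUnderBaseChange] {X B : Scheme.{u}} (g : X ⟶ B)
    {U V : B.Opens} (hUV : U ≤ V) (h : P (g ∣_ V)) : P (g ∣_ U) :=
  of_restrict P g V h (B.homOfLE hUV) (p := (g ⁻¹ᵁ U).ι) (by rw [B.homOfLE_ι]; exact (isPullback_morphismRestrict g U).flip)

/-- A component meeting a flat preimmersion restricts to a component. -/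
theorem component_preimage {W X : Scheme.{u}} (j : W ⟶ X) [IsPreimmersion j] [Flat j] {T : Set X}
    (hT : T ∈ irreducibleComponents X) {w : W} (hw : j w ∈ T) : j ⁻¹' T ∈ irreducibleComponents W := by
  have hTc : IsClosed T := isClosed_of_mem_irreducibleComponents T hT
  obtain ⟨ξ, hξ⟩ := QuasiSober.sober hT.1 hTc
  obtain ⟨v, -, rfl⟩ := Flat.generalizingMap j (hξ.specializes hw)
  have hcl : j ⁻¹' T = closure {v} := by
    rw [j.isEmbedding.isInducing.closure_eq_preimage_closure_image, Set.image_singleton, hξ.def]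
  refine ⟨hcl ▸ isIrreducible_singleton.closure, fun s hs hle => ?_⟩
  intro x hx
  have h1 : T ≤ closure (j '' s) := by
    rw [← hξ.def]
    exact closure_mono (Set.singleton_subset_iff.2 ⟨v, hle hξ.mem, rfl⟩)
  exact hT.2 ((hs.image j j.continuous.continuousOn).closure) h1 (subset_closure ⟨x, hx, rfl⟩)

/-- The open of good behaviour for one component. -/
theorem exists_open_component {Z B : Scheme.{u}} (g : Z ⟶ B) [IsIntegral B] [LocallyOfFiniteType g] [QuasiCompact g]
    (h : GeometricallyIntegral (g.fiberToSpecResidueField (genericPoint B))) :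
    ∃ V : B.Opens, genericPoint B ∈ V ∧ GeometricallyIntegral (g ∣_ V) ∧ Flat (g ∣_ V) := by
  obtain ⟨V₁, h1, hr⟩ := S0434.result g inferInstance
  obtain ⟨V₂, h2, hi⟩ := S0419.result g inferInstance
  obtain ⟨V₃, h3, hf, -⟩ := GenFree.exists_good_open g
  have hm : ∀ {V : B.Opens}, (V : Set B).Nonempty → genericPoint B ∈ V :=
    fun {V} hV => CommSpreadLib.genericPoint_mem_of_nonempty hV
  refine ⟨V₁ ⊓ V₂ ⊓ V₃, ⟨⟨hm h1, hm h2⟩, hm h3.nonempty⟩, ?_, restrict_mono @Flat g inf_le_right hf⟩
  haveI : GeometricallyReduced (g ∣_ (V₁ ⊓ V₂ ⊓ V₃)) :=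
    restrict_mono @GeometricallyReduced g (inf_le_left.trans inf_le_left) hr
  haveI : GeometricallyIrreducible (g ∣_ (V₁ ⊓ V₂ ⊓ V₃)) :=
    restrict_mono @GeometricallyIrreducible g (inf_le_left.trans inf_le_right) hi
  exact GeometricallyIntegral.of_geometricallyReduced_of_geometricallyIrreducible _

/-- The generic fibre of a component is a component of the generic fibre. -/
theorem fibre_component {X B Y W : Scheme.{u}} {g : X ⟶ B} {gL : Y ⟶ B} {fst : W ⟶ X} {snd : W ⟶ Y}
    (sq : IsPullback fst snd g gL) [IsPreimmersion gL] [Flat gL]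
    (hW : ∀ (T : Scheme.{u}) (i : T ⟶ W) [IsClosedImmersion i] [IsReduced T],
      Set.range i ∈ irreducibleComponents W → GeometricallyIntegral (i ≫ snd))
    {Z : Scheme.{u}} (ι : Z ⟶ X) [IsClosedImmersion ι] [IsReduced Z] (hZ : Set.range ι ∈ irreducibleComponents X)
    (z : Z) (y : Y) (hz : g (ι z) = gL y) :
    GeometricallyIntegral ((ι ≫ g).fiberToSpecResidueField (gL y)) := by
  haveI : IsPreimmersion fst := MorphismProperty.of_isPullback sq.flip inferInstance
  haveI : Flat fst := MorphismProperty.of_isPullback sq.flip inferInstance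
  let c := pullback.snd ι fst
  haveI : IsClosedImmersion c := MorphismProperty.pullback_snd _ _ inferInstance
  haveI : IsPreimmersion (pullback.fst ι fst) := MorphismProperty.pullback_fst _ _ inferInstance
  haveI : Flat (pullback.fst ι fst) := MorphismProperty.pullback_fst _ _ inferInstance
  haveI : IsReduced (pullback ι fst) := isReduced_of_flat_preimmersion (pullback.fst ι fst)
  obtain ⟨w, hw, -⟩ := Scheme.exists_preimage_of_isPullback sq (ι z) y hz
  have hc : Set.range c ∈ irreducibleComponents W := by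
    rw [Scheme.Pullback.range_snd]
    exact component_preimage fst hZ (w := w) ⟨z, hw.symm⟩
  haveI : GeometricallyIntegral (c ≫ snd) := hW _ c hc
  have hsq : IsPullback (pullback.fst ι fst) (c ≫ snd) (ι ≫ g) gL :=
    (IsPullback.of_hasPullback ι fst).paste_vert sq
  exact (GenIrredLib.geometricallyIntegral_fiber_baseChange (ι ≫ g) hsq y).1 inferInstance

/-- Reduced closed subschemes with component image, pulled back along an open. -/
theorem component_of_open {X B S' P : Scheme.{u}} {g : X ⟶ B} {a : S' ⟶ B} [IsOpenImmersion a] {j : P ⟶ X} {q : P ⟶ S'}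
    (sq : IsPullback j q g a) {V : B.Opens} (ha : Set.range a ⊆ V)
    (good : ∀ (Z : Scheme.{u}) (ι : Z ⟶ X) [IsClosedImmersion ι] [IsReduced Z],
      Set.range ι ∈ irreducibleComponents X → (∀ z, g (ι z) ∉ V) ∨ (GeometricallyIntegral ((ι ≫ g) ∣_ V) ∧ Flat ((ι ≫ g) ∣_ V)))
    {Z : Scheme.{u}} (i : Z ⟶ P) [IsClosedImmersion i] [IsReduced Z] (hZ : Set.range i ∈ irreducibleComponents P) :
    Flat (i ≫ q) ∧ GeometricallyIntegral (i ≫ q) := by
  haveI : IsOpenImmersion j := MorphismProperty.of_isPullback sq.flip inferInstance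
  have hjo : IsOpen (Set.range j) := j.isOpenEmbedding.isOpen_range
  obtain ⟨T, hT⟩ : ∃ T, T = closure (j '' Set.range i) := ⟨_, rfl⟩
  have hTi : IsIrreducible T := hT ▸ (hZ.1.image j j.continuous.continuousOn).closure
  have hpre : j ⁻¹' T = Set.range i := by
    rw [hT, ← j.isEmbedding.isInducing.closure_eq_preimage_closure_image, i.isClosedEmbedding.isClosed_range.closure_eq]
  obtain ⟨p, ⟨z₀, rfl⟩⟩ := hZ.1.nonempty
  have hTcomp : T ∈ irreducibleComponents X := by
    refine ⟨hTi, fun s hs hle => ?_⟩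
    have hs' := hs.closure
    have h1 : IsPreirreducible (j ⁻¹' closure s) := hs'.2.preimage j.isOpenEmbedding
    have h2 : Set.range i ≤ j ⁻¹' closure s := fun x hx => subset_closure (hle (hT ▸ subset_closure ⟨x, hx, rfl⟩))
    have h3 : j ⁻¹' closure s ≤ Set.range i := hZ.2 ⟨⟨_, h2 ⟨z₀, rfl⟩⟩, h1⟩ h2
    intro x hx
    have hx' := subset_closure_inter_of_isPreirreducible_of_isOpen hs'.2 hjo
      ⟨j (i z₀), h2 ⟨z₀, rfl⟩, ⟨_, rfl⟩⟩ (subset_closure hx)
    rw [hT]
    refine closure_mono ?_ hx'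
    rintro _ ⟨hy, x', rfl⟩
    exact ⟨x', h3 hy, rfl⟩
  let I := Scheme.IdealSheafData.vanishingIdeal ⟨T, isClosed_of_mem_irreducibleComponents T hTcomp⟩
  let ι := I.subschemeι
  haveI : IsReduced I.subscheme := DVRCrit.isReduced_vanishingIdeal _
  have hι : Set.range ι = T := by
    rw [Scheme.IdealSheafData.range_subschemeι, Scheme.IdealSheafData.coe_support_vanishingIdeal]
    rfl
  let c := pullback.snd ι j
  haveI : IsClosedImmersion c := MorphismProperty.pullback_snd _ _ inferInstance
  haveI : IsOpenImmersion (pullback.fst ι j) := MorphismProperty.pullback_fst _ _ inferInstance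
  haveI : IsReduced (pullback ι j) := isReduced_of_isOpenImmersion (pullback.fst ι j)
  have hc : Set.range c = Set.range i := by rw [Scheme.Pullback.range_snd, hι, hpre]
  obtain ⟨e, he⟩ := RedSepLib.exists_iso_of_range_eq i c hc.symm
  rcases good I.subscheme ι (hι.symm ▸ hTcomp) with h | h
  · exfalso
    obtain ⟨t, ht⟩ : j (i z₀) ∈ Set.range ι := by
      rw [hι, hT]
      exact subset_closure ⟨_, ⟨z₀, rfl⟩, rfl⟩
    refine h t (ha ⟨q (i z₀), ?_⟩)
    rw [ht, ← Scheme.Hom.comp_apply q, ← sq.w, Scheme.Hom.comp_apply]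
  · have hsq : IsPullback (pullback.fst ι j) (c ≫ q) (ι ≫ g) a :=
      (IsPullback.of_hasPullback ι j).paste_vert sq
    let a' := IsOpenImmersion.lift V.ι a (by rw [Scheme.Opens.range_ι]; exact ha)
    have hsq' : IsPullback (pullback.fst ι j) (c ≫ q) (ι ≫ g) (a' ≫ V.ι) := by
      rw [IsOpenImmersion.lift_fac]
      exact hsq
    rw [← he, Category.assoc, MorphismProperty.cancel_left_of_respectsIso @Flat,
      MorphismProperty.cancel_left_of_respectsIso @GeometricallyIntegral]
    exact ⟨of_restrict @Flat _ V h.2 a' hsq', of_restrict @GeometricallyIntegral _ V h.1 a' hsq'⟩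

/-- An open over which every component is good or absent. -/
theorem exists_good_open_components {X B : Scheme.{u}} (g : X ⟶ B) [IsIntegral B] [IsNoetherian X]
    [LocallyOfFiniteType g] [QuasiCompact g]
    (h : ∀ (Z : Scheme.{u}) (ι : Z ⟶ X) [IsClosedImmersion ι] [IsReduced Z], Set.range ι ∈ irreducibleComponents X →
      ∀ z, g (ι z) = genericPoint B → GeometricallyIntegral ((ι ≫ g).fiberToSpecResidueField (genericPoint B))) :
    ∃ V : B.Opens, genericPoint B ∈ V ∧ ∀ (Z : Scheme.{u}) (ι : Z ⟶ X) [IsClosedImmersion ι] [IsReduced Z],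
      Set.range ι ∈ irreducibleComponents X →
        (∀ z, g (ι z) ∉ V) ∨ (GeometricallyIntegral ((ι ≫ g) ∣_ V) ∧ Flat ((ι ≫ g) ∣_ V)) := by
  classical
  have key : ∀ T : irreducibleComponents (X : Type u), ∃ V : B.Opens, genericPoint B ∈ V ∧
      ∀ U : B.Opens, U ≤ V → ∀ (Z : Scheme.{u}) (ι : Z ⟶ X) [IsClosedImmersion ι] [IsReduced Z], Set.range ι = T.1 →
        (∀ z, g (ι z) ∉ U) ∨ (GeometricallyIntegral ((ι ≫ g) ∣_ U) ∧ Flat ((ι ≫ g) ∣_ U)) := by
    intro T
    have hTc : IsClosed T.1 := isClosed_of_mem_irreducibleComponents T.1 T.2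
    by_cases hx : ∀ x ∈ T.1, g x ≠ genericPoint B
    · obtain ⟨V, hV, hVT⟩ := CommSpreadLib.exists_open_avoid_closed g hTc hx
      exact ⟨V, hV, fun U hU Z ι _ _ hr => Or.inl fun z hz => hVT (ι z) (hr ▸ ⟨z, rfl⟩) (hU hz)⟩
    · push Not at hx
      obtain ⟨x, hxT, hxη⟩ := hx
      let I := Scheme.IdealSheafData.vanishingIdeal ⟨T.1, hTc⟩
      let ι₀ := I.subschemeι
      haveI : IsReduced I.subscheme := DVRCrit.isReduced_vanishingIdeal _
      have hι : Set.range ι₀ = T.1 := by
        rw [Scheme.IdealSheafData.range_subschemeι, Scheme.IdealSheafData.coe_support_vanishingIdeal]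
        rfl
      obtain ⟨z, hz⟩ := hι.ge hxT
      obtain ⟨V, hV, hg, hf⟩ := exists_open_component (ι₀ ≫ g)
        (h I.subscheme ι₀ (hι.symm ▸ T.2) z (by rw [hz]; exact hxη))
      refine ⟨V, hV, fun U hU Z ι _ _ hr => Or.inr ?_⟩
      obtain ⟨e, he⟩ := RedSepLib.exists_iso_of_range_eq ι ι₀ (hr.trans hι.symm)
      have hsq : IsPullback ((ι ≫ g) ⁻¹ᵁ U).ι ((ι ≫ g) ∣_ U) (ι ≫ g) U.ι := (isPullback_morphismRestrict _ U).flip
      have hsq0 : IsPullback (((ι ≫ g) ⁻¹ᵁ U).ι ≫ e.hom) ((ι ≫ g) ∣_ U) (ι₀ ≫ g) U.ι :=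
        hsq.of_iso (Iso.refl _) e (Iso.refl _) (Iso.refl _) (by simp) (by simp) (by simp [reassoc_of% he]) (by simp)
      rw [← B.homOfLE_ι hU] at hsq0
      exact ⟨of_restrict @GeometricallyIntegral _ V hg _ hsq0, of_restrict @Flat _ V hf _ hsq0⟩
  choose V hV hgood using key
  have hfin : (irreducibleComponents (X : Type u)).Finite := NoetherianSpace.finite_irreducibleComponents
  haveI := hfin.to_subtype
  refine ⟨⟨⋂ T, (V T : Set B), isOpen_iInter_of_finite fun T => (V T).2⟩, Set.mem_iInter.2 hV,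
    fun Z ι _ _ hr => hgood ⟨_, hr⟩ _ (fun x hx => Set.mem_iInter.1 hx ⟨_, hr⟩) Z ι rfl⟩

end Groth.Agent.GeomIntCompLib
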